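import Cfsg.Agent.SP.Neg.Gen
import Cfsg.Agent.MonsterP.Equiv
import Cfsg.Agent.BpSpor.MBigEleven
import Cfsg.Agent.LThreeB.Row

/-! # S5755, the Monster row: boxes and assembly

All boxes are statements on the model `MG`.  A box may take `H940.Eng.Base` as a hypothesis. -/

set_option autoImplicit false
set_option linter.style.haveILetI false

namespace Cfsg.Agent.SP.Mon

open Subgroup
open Cfsg.Agent.BpSpor.MBigModel (MG)
open Cfsg.Agent.LThreeB.Row (TA)

section General
variable {T : Type*} [Group T]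

/-- No pair `(A, B)` of `T` has `A ≤ H`. -/
def NoPairIn (H : Subgroup T) : Prop := ∀ A B : Subgroup T, A ≤ H → ¬ IsPair A B

theorem NoPairIn.mono {H K : Subgroup T} (h : NoPairIn H) (hK : K ≤ H) : NoPairIn K :=
  fun A B hA => h A B (hA.trans hK)

theorem NoPairIn.conj {H : Subgroup T} (h : NoPairIn H) (g : T) :
    NoPairIn (H.map (MulAut.conj g).toMonoidHom) := by
  intro A B hA hp
  refine h _ _ ?_ (hp.map (MulAut.conj g⁻¹))
  rintro _ ⟨x, hx, rfl⟩
  have := mem_map_conj.1 (hA hx)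
  simpa using this

/-- If `g⁻¹ K g ≤ H` and `H` holds no pair, then `K` holds no pair. -/
theorem NoPairIn.of_conj {H K : Subgroup T} (h : NoPairIn H) (g : T)
    (hK : ∀ x ∈ K, g⁻¹ * x * g ∈ H) : NoPairIn K :=
  (h.conj g).mono fun x hx => mem_map_conj.2 (hK x hx)

/-- `V` is an elementary abelian `p`-group, `V ≠ 1`, normalised by `A`, and `A` normalises no
subgroup strictly between `1` and `V`. -/
structure MinInv (p : ℕ) (A V : Subgroup T) : Prop where
  ne_bot : V ≠ ⊥
  pow : ∀ v ∈ V, v ^ p = 1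
  comm : ∀ v ∈ V, ∀ w ∈ V, v * w = w * v
  norm : ∀ a ∈ A, ∀ v ∈ V, a * v * a⁻¹ ∈ V
  min : ∀ W : Subgroup T, W ≤ V → (∀ a ∈ A, ∀ w ∈ W, a * w * a⁻¹ ∈ W) → W = ⊥ ∨ W = V

theorem MinInv.le_normalizer [Finite T] {p : ℕ} {A V : Subgroup T} (h : MinInv p A V) :
    A ≤ normalizer (V : Set T) := fun a ha =>
  mem_normalizer_fintype (fun v hv => h.norm a ha v hv)

theorem MinInv.isPGroup {p : ℕ} {A V : Subgroup T} (h : MinInv p A V) : IsPGroup p V :=
  fun v => ⟨1, Subtype.ext (by simpa using h.pow v v.2)⟩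

theorem MinInv.orderOf_eq {p : ℕ} (hp : p.Prime) {A V : Subgroup T} (h : MinInv p A V) {v : T}
    (hv : v ∈ V) (h1 : v ≠ 1) : orderOf v = p :=
  haveI := Fact.mk hp
  orderOf_eq_prime (h.pow v hv) h1

/-- A group normalising a non-trivial `p`-subgroup has a minimal invariant elementary abelian
`p`-subgroup inside it. -/
theorem exists_minInv [Finite T] {p : ℕ} (hp : p.Prime) {A V : Subgroup T} (hV : V ≠ ⊥)
    (hpV : IsPGroup p V) (hA : ∀ a ∈ A, ∀ v ∈ V, a * v * a⁻¹ ∈ V) :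
    ∃ W ≤ V, MinInv p A W := by
  haveI := Fact.mk hp
  obtain ⟨W, ⟨hW0, hWV, hWA⟩, hmin⟩ := exists_minimal_of_wellFoundedLT
    (fun W : Subgroup T => W ≠ ⊥ ∧ W ≤ V ∧ ∀ a ∈ A, ∀ w ∈ W, a * w * a⁻¹ ∈ W) ⟨V, hV, le_rfl, hA⟩
  have hmin' : ∀ U : Subgroup T, U ≤ W → (∀ a ∈ A, ∀ w ∈ U, a * w * a⁻¹ ∈ U) → U = ⊥ ∨ U = W := by
    intro U hU hUA
    by_cases h0 : U = ⊥
    · exact Or.inl h0
    · exact Or.inr (le_antisymm hU (hmin ⟨h0, hU.trans hWV, hUA⟩ hU))
  have hpW : IsPGroup p W := hpV.to_le hWV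
  haveI : Nontrivial W := (nontrivial_iff_ne_bot W).2 hW0
  -- the elements of order dividing `p` of the centre of `W`
  let U : Subgroup T :=
    { carrier := {x | x ∈ W ∧ (∀ w ∈ W, x * w = w * x) ∧ x ^ p = 1}
      one_mem' := ⟨W.one_mem, by simp, by simp⟩
      mul_mem' := by
        rintro x y ⟨hx, hxc, hxp⟩ ⟨hy, hyc, hyp⟩
        refine ⟨W.mul_mem hx hy, fun w hw => ?_, ?_⟩
        · rw [mul_assoc, hyc w hw, ← mul_assoc, hxc w hw, mul_assoc]
        · rw [(show Commute x y from hxc y hy).mul_pow, hxp, hyp, one_mul]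
      inv_mem' := by
        rintro x ⟨hx, hxc, hxp⟩
        refine ⟨W.inv_mem hx, fun w hw => ?_, by rw [inv_pow, hxp, inv_one]⟩
        exact (show Commute x w from hxc w hw).inv_left.eq }
  have hU : U = W := by
    refine (hmin' U (fun x hx => hx.1) ?_).resolve_left ?_
    · rintro a ha x ⟨hx, hxc, hxp⟩
      refine ⟨hWA a ha x hx, fun w hw => ?_, by rw [conj_pow, hxp]; simp⟩
      have := hxc _ (hWA a⁻¹ (A.inv_mem ha) w hw)
      calc a * x * a⁻¹ * w = a * (x * (a⁻¹ * w * a⁻¹⁻¹)) * a⁻¹ := by group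
        _ = w * (a * x * a⁻¹) := by rw [this]; group
    · haveI := IsPGroup.center_nontrivial hpW
      obtain ⟨z, hz1⟩ := exists_ne (1 : center W)
      have hz : IsPGroup p (center W) := hpW.to_subgroup _
      obtain ⟨k, hk⟩ := IsPGroup.iff_orderOf.1 hz z
      have hdv : p ∣ orderOf z := by
        rcases k with _ | k
        · exact absurd (orderOf_eq_one_iff.1 (by simpa using hk)) hz1
        · rw [hk]; exact dvd_pow_self p k.succ_ne_zero
      let y : center W := z ^ (orderOf z / p)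
      have hy : orderOf y = p := orderOf_pow_orderOf_div (orderOf_pos z).ne' hdv
      intro h0
      have hyU : ((y : W) : T) ∈ U := by
        refine ⟨(y : W).2, fun w hw => ?_, ?_⟩
        · exact congrArg Subtype.val (mem_center_iff.1 y.2 ⟨w, hw⟩).symm
        · have := pow_orderOf_eq_one y
          rw [hy] at this
          exact congrArg (fun u : center W => ((u : W) : T)) this
      rw [h0, mem_bot] at hyU
      have : y = 1 := Subtype.ext (Subtype.ext hyU)
      rw [this, orderOf_one] at hy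
      exact hp.one_lt.ne hy
  have hmem : ∀ x ∈ W, x ∈ U := fun x hx => hU.symm ▸ hx
  exact ⟨W, hWV, hW0, fun v hv => (hmem v hv).2.2, fun v hv => (hmem v hv).2.1, hWA, hmin'⟩

end General

/-- Box `U`: pairs are large. -/
def BoxU : Prop := ∀ A B : Subgroup MG, IsPair A B → 5 * 10 ^ 13 < Nat.card A

/-- Box `NL`: the first member of a pair lies in a local subgroup. -/
def BoxNL : Prop := ∀ A B : Subgroup MG, IsPair A B →
  ∃ (p : ℕ) (V : Subgroup MG), p.Prime ∧ V ≠ ⊥ ∧ IsPGroup p V ∧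
    ∀ a ∈ A, ∀ v ∈ V, a * v * a⁻¹ ∈ V

/-- Box `L p`: no pair with a minimal invariant elementary abelian `p`-subgroup. -/
def BoxL (p : ℕ) : Prop := ∀ A B V : Subgroup MG, IsPair A B → MinInv p A V → False

/-- Box `C2A`: no pair in the centraliser of a `2A` involution. -/
def BoxC2A : Prop := ∀ a : MG, TA a → NoPairIn (centralizer ({a} : Set MG))

/-- Box `N2A2`: no pair in the normaliser of a `2A`-pure four-group. -/
def BoxN2A2 : Prop := ∀ a b : MG, TA a → TA b → TA (a * b) → a * b = b * a →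
  NoPairIn (normalizer (closure ({a, b} : Set MG) : Set MG))

/-- the class `3A` -/
def T3A (x : MG) : Prop :=
  orderOf x = 3 ∧ Nat.card (centralizer ({x} : Set MG)) = 3 * 1255205709190661721292800

/-- the class `3C` -/
def T3C (x : MG) : Prop :=
  orderOf x = 3 ∧ Nat.card (centralizer ({x} : Set MG)) = 3 * 90745943887872000

/-- Box `N3C`: no pair in the normaliser of a group of order three of class `3C`. -/
def BoxN3C : Prop := ∀ x : MG, T3C x → NoPairIn (normalizer (zpowers x : Set MG))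

/-- Assembly on the model. -/
theorem not_pair_MG (hNL : BoxNL) (h2 : BoxL 2) (h3 : BoxL 3)
    (h5 : ∀ p : ℕ, p.Prime → 5 ≤ p → BoxL p) : ¬ Pair MG := by
  haveI : Finite MG := BpSpor.MBigModel.finite
  rintro ⟨A, B, h⟩
  obtain ⟨p, V, hp, hV, hpV, hA⟩ := hNL A B h
  obtain ⟨W, -, hW⟩ := exists_minInv hp hV hpV hA
  rcases (by have := hp.two_le; omega : p = 2 ∨ p = 3 ∨ p = 4 ∨ 5 ≤ p) with rfl | rfl | rfl | h'
  · exact h2 A B W h hW
  · exact h3 A B W h hW
  · exact absurd hp (by norm_num)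
  · exact h5 p hp h' A B W h hW

/-- Assembly on the Monster. -/
theorem not_pair_monster (hNL : BoxNL) (h2 : BoxL 2) (h3 : BoxL 3)
    (h5 : ∀ p : ℕ, p.Prime → 5 ≤ p → BoxL p) : ¬ Pair Spor.Monster := fun h =>
  let ⟨e⟩ := MonsterP.Equiv.equiv
  not_pair_MG hNL h2 h3 h5 (h.of_equiv e)

end Cfsg.Agent.SP.Mon
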