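import Cfsg.Agent.SP.Mon.L3.Iface
import Cfsg.Agent.TAB.M.Cls

/-!
# S5755, the Monster: boxes from the table of the types (helper16)
-/

set_option autoImplicit false
set_option maxRecDepth 100000

namespace Cfsg.Agent.SP.Mon.Tab

open Cfsg Cfsg.Agent.TAB.M Cfsg.Agent.TAB.Eng
open Cfsg.Agent.BpSpor.MBigModel (MG finite)
open Cfsg.Agent.H940.Eng (Base)

variable (B : Base) (h : Box3)
include B h

theorem ty_A {x : MG} (hx : T3A x) : TyM 3 x := by
  have h1 := hx.2
  rcases three B h hx.1 with h2 | ⟨-, h2⟩ | ⟨-, h2⟩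
  · exact h2.1
  all_goals omega

theorem ty_B {x : MG} (hx : T3B x) : TyM 4 x := by
  have h1 := hx.card_dvd
  rcases three B h hx.order with ⟨-, h2⟩ | h2 | ⟨-, h2⟩
  · rw [h2] at h1
    exact absurd h1 (by norm_num)
  · exact h2.1
  · rw [h2] at h1
    exact absurd h1 (by norm_num)

omit B h in
theorem ncard_le {P Q : MG → Prop} (hPQ : ∀ t, P t → Q t) {c n m : ℕ} (h1 : c * Nat.card {t : MG // Q t} = n)
    (h2 : n < c * (m + 1)) : {t : MG | P t}.ncard ≤ m := by
  have := finite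
  rw [← h1] at h2
  exact (Set.ncard_le_ncard (t := {t | Q t}) hPQ).trans (Nat.le_of_lt_succ (Nat.lt_of_mul_lt_mul_left h2))

theorem boxEv3 : BoxEv3 := fun _ hx => ev3 B h hx

theorem boxAA : BoxAA := fun _ hx =>
  ncard_le (fun _ ht => ⟨⟨1, List.mem_cons_self, TAB.M4.ty_of_ta ht.1⟩, ht.2⟩)
    (card_comm_ty B h (by decide) TAB.M4.boxC_3A (ty_A B h hx) [1] 2 4 3 (by decide +kernel)) (by decide +kernel)

theorem boxN2 : BoxN2 := fun _ hx =>
  ncard_le (fun _ ht => ⟨ty_of_ord B h (by decide +kernel) ht.1, ht.2⟩)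
    (card_comm_ty B h (by decide) h.1 (ty_B B h hx) [1, 2] 2 4 3 (by decide +kernel)) (by decide +kernel)

theorem boxN5 : BoxN5 := fun _ hx =>
  ncard_le (fun _ ht => ⟨ty_of_ord B h (by decide +kernel) ht.1, ht.2⟩)
    (card_comm_ty B h (by decide) h.1 (ty_B B h hx) [10, 11] 5 10 6 (by decide +kernel)) (by decide +kernel)

end Cfsg.Agent.SP.Mon.Tab
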