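import Cfsg.Agent.SP.Mon.L3B.Box
import Cfsg.Agent.SP.Mon.NL.TE6
import Cfsg.Agent.SP.Mon.NL.BoxU
import Cfsg.Agent.SP.Mon.C2A.Box
import Cfsg.Agent.SP.Mon.Two.Box
import Cfsg.Agent.SP.Mon.Odd.L5
import Cfsg.Agent.SP.Mon.Odd.N3C
import Cfsg.Agent.SP.Mon.L3C.Box
import Cfsg.Agent.SP.Mon.D1.Box
import Cfsg.Agent.SP.Mon.D3.Box
import Cfsg.Agent.SP.Mon.F3.Box
import Cfsg.Agent.SP.Mon.PA.L3A
import Cfsg.Agent.SP.Mon.Tab
import Cfsg.Agent.SP.Mon.Cert.N3A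
import Cfsg.Agent.SP.Mon.Cert.N2A2
import Cfsg.Agent.TAB.C3B.Box

/-! # S5755: the Monster has no pair -/

set_option autoImplicit false

namespace Cfsg.Agent.SP.Mon

/-- **The Monster row.** -/
theorem negM (B : H940.Eng.Base) (hTh : ¬ Pair Spor.Th) : ¬ Pair Spor.Monster :=
  have hK := NL.allKnown B
  have hU := NL.boxU B
  have hE := Tab.boxEv3 B TAB.C3B.box3
  not_pair_monster (NL.boxNL B) (Two.boxL2 hK (C2A.boxC2A hTh) (Cert.N2A2.boxN2A2 hK))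
    (boxL3_of hE (boxL3A B (Cert.N3A.boxN3A hK) F3.boxAA)
      (L3B.boxL3B hK hE D3.boxRk boxP27 D1.boxCQ D1.boxN2 D1.boxNI D1.boxN3 D1.boxN5 F3.boxGam)
      (L3C.boxL3C (Odd.boxN3C B hU) hU))
    (Odd.boxL5 B hU)

end Cfsg.Agent.SP.Mon
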